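import Groth.Agent.Lib.HilbObs26.DualCoh
import Groth.Agent.Lib.QCoh.DevissageRoots

/-!
The sheaf Hom of coherent modules is coherent.
-/

set_option autoImplicit false
set_option backward.isDefEq.respectTransparency false
universe u

noncomputable section

open CategoryTheory CategoryTheory.Limits AlgebraicGeometry MonoidalCategory TopologicalSpace

namespace GrothLib.CohHom9

open LocFreeHom

attribute [local instance] LocFreeHom.hasSheafHom Abelian.hasFiniteBiproducts

variable {X : Scheme.{u}}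

/-- `Hom(O, G) ≅ G`. -/
def iHomUnitIso (G : X.Modules) : iHom (Coh.structureModule X) G ≅ G :=
  (OX.tensorUnitNatIso.app _).symm ≪≫
    @asIso _ _ _ _ (ev (Coh.structureModule X) G) (isIso_ev_of_unit (Iso.refl _) G)

theorem isCoh_iHom_free [IsLocallyNoetherian X] {G : X.Modules} (hG : Coh.IsCoh G) (n : ℕ) :
    Coh.IsCoh (iHom (FlatMod.freeMod X n) G) := by
  classical
  let O := Coh.structureModule X
  let ι := fun i => Sigma.ι (fun _ : Fin n => O) i
  let B := ⨁ fun _ : Fin n => iHom O G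
  let a : iHom (FlatMod.freeMod X n) G ⟶ B := biproduct.lift fun i => hMap (ι i) G
  let b : B ⟶ iHom (FlatMod.freeMod X n) G := biproduct.desc fun i => hMap (freeProj X n i) G
  have hab : a ≫ b = 𝟙 _ := by
    rw [biproduct.lift_desc, ← hMap_id, ← freeProj_total, hMap_sum]
    exact Finset.sum_congr rfl fun i _ => (hMap_comp _ _ _).symm
  have hB : Coh.IsCoh B := QCoh.isCoh_biproduct_fin _ fun _ => QCoh.isCoh_of_iso (iHomUnitIso G).symm hG
  haveI : IsSplitMono a := IsSplitMono.mk' ⟨b, hab⟩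
  let e : iHom (FlatMod.freeMod X n) G ≅ kernel (𝟙 B - b ≫ a) :=
    { hom := kernel.lift _ a (by rw [Preadditive.comp_sub, Category.comp_id, ← Category.assoc, hab, Category.id_comp, sub_self])
      inv := kernel.ι _ ≫ b
      hom_inv_id := by rw [kernel.lift_ι_assoc, hab]
      inv_hom_id := by
        rw [← cancel_mono (kernel.ι (𝟙 B - b ≫ a)), Category.assoc, kernel.lift_ι, Category.id_comp]
        have h := kernel.condition (𝟙 B - b ≫ a)
        rw [Preadditive.comp_sub, Category.comp_id, sub_eq_zero] at h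
        rw [Category.assoc]
        exact h.symm }
  exact QCoh.isCoh_of_iso e.symm (QCoh.isCoh_kernel _ hB hB)

theorem isCoh_iHom_affine [IsAffine X] [IsLocallyNoetherian X] {F G : X.Modules} (hF : Coh.IsCoh F) (hG : Coh.IsCoh G) :
    Coh.IsCoh (iHom F G) := by
  obtain ⟨n, p, hp⟩ := RegSheaf.exists_freeMod_epi hF
  have hK : Coh.IsCoh (kernel p) := QCoh.isCoh_kernel p (DegDet.isCoh_freeMod X n) hF
  obtain ⟨m, q, hq⟩ := RegSheaf.exists_freeMod_epi hK
  let S := ShortComplex.mk (q ≫ kernel.ι p) p (by simp)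
  have hS : S.Exact := by
    refine S.exact_iff_epi_kernel_lift.2 ?_
    rw [show kernel.lift S.g S.f S.zero = q from (cancel_mono (kernel.ι p)).1 (kernel.lift_ι _ _ _)]
    exact hq
  haveI : Epi S.g := hp
  obtain ⟨e⟩ := HilbObs26.hMap_exact hS G
  exact QCoh.isCoh_of_iso e.symm (QCoh.isCoh_kernel _ (isCoh_iHom_free hG n) (isCoh_iHom_free hG m))

/-- The sheaf Hom of coherent modules on a locally Noetherian scheme is coherent. -/
theorem isCoh_sheafHom [IsLocallyNoetherian X] {F G : X.Modules} (hF : Coh.IsCoh F) (hG : Coh.IsCoh G) :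
    Coh.IsCoh ((DCoh.sheafHom F).obj G) := by
  refine Euler.isCoh_of_restrict fun x => ?_
  obtain ⟨U₀, hU, hxU, -⟩ := Opens.isBasis_iff_nbhd.1 X.isBasis_affineOpens (Opens.mem_top x)
  let U : X.Opens := U₀
  haveI : IsAffine (U : Scheme.{u}) := hU
  haveI : IsLocallyNoetherian (U : Scheme.{u}) := isLocallyNoetherian_of_isOpenImmersion U.ι
  haveI : ModSite.HasSheafHom (O := X.sheaf) F := SheafCoh.hasSheafHom _ _
  haveI : ModSite.HasSheafHom (O := (U : Scheme.{u}).sheaf) ((Scheme.Modules.restrictFunctor U.ι).obj F) :=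
    SheafCoh.hasSheafHom _ _
  let F' := (Scheme.Modules.restrictFunctor U.ι).obj F
  have hc : Coh.IsCoh ((DCoh.sheafHom F').obj ((Scheme.Modules.restrictFunctor U.ι).obj G)) :=
    isCoh_iHom_affine (Cohom.isCoh_restrict F hF U.ι) (Cohom.isCoh_restrict G hG U.ι)
  let a : (DCoh.sheafHom F).obj G ≅
      (ModSite.sheafHom (O := X.sheaf) F).obj G :=
    ((LocFreeDual20.siteHomIso F).app G).symm
  let b : (Scheme.Modules.restrictFunctor U.ι).obj ((ModSite.sheafHom (O := X.sheaf) F).obj G) ≅
      (ModSite.sheafHom (O := (U : Scheme.{u}).sheaf) F').obj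
        ((Scheme.Modules.restrictFunctor U.ι).obj G) :=
    (HomRestrict20.sheafHomRestrictIso U.ι F).app G
  let c : (ModSite.sheafHom (O := (U : Scheme.{u}).sheaf) F').obj
        ((Scheme.Modules.restrictFunctor U.ι).obj G) ≅
      (DCoh.sheafHom F').obj ((Scheme.Modules.restrictFunctor U.ι).obj G) :=
    (LocFreeDual20.siteHomIso F').app _
  let t : (Scheme.Modules.restrictFunctor U.ι).obj ((DCoh.sheafHom F).obj G) ≅
      (DCoh.sheafHom F').obj ((Scheme.Modules.restrictFunctor U.ι).obj G) :=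
    (Scheme.Modules.restrictFunctor U.ι).mapIso a ≪≫ b ≪≫ c
  exact ⟨U, hxU, QCoh.isCoh_of_iso t.symm hc⟩

end GrothLib.CohHom9
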