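import Groth.Agent.Lib.CohHom9.Basic
import Groth.Agent.Lib.DepthKer.Basic
import Groth.Agent.Lib.FiniteQuot.DepthDescent
import Groth.Agent.Lib.FTDesc.GenOn
import Groth.Agent.Lib.OX.Exact
import Groth.Agent.Lib.QCoh.AvoidSub
import Mathlib.Algebra.Category.ModuleCat.Biproducts
import Mathlib.RingTheory.KrullDimension.Module

/-!
Stalks and depth of the sheaf Hom of coherent modules.
-/

set_option autoImplicit false
set_option backward.isDefEq.respectTransparency false
universe u

noncomputable section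

open CategoryTheory CategoryTheory.Limits AlgebraicGeometry TopologicalSpace Opposite

namespace GrothLib.CohHom9

open LocFreeHom

attribute [local instance] LocFreeHom.hasSheafHom Abelian.hasFiniteBiproducts

variable {X : Scheme.{u}}

theorem hMap_ι_freeProj (X : Scheme.{u}) (G : X.Modules) (n : ℕ) (j i : Fin n) :
    hMap (freeProj X n j) G ≫ hMap (Sigma.ι (fun _ : Fin n => Coh.structureModule X) i) G =
      if i = j then 𝟙 _ else 0 := by
  rw [← hMap_comp, ι_freeProj]
  split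
  · exact hMap_id _ _
  · exact HilbObs26.hMap_zero _ _ _

/-- `Hom(O^n, G) = G^n`. -/
def iHomFreeIso (G : X.Modules) (n : ℕ) : iHom (FlatMod.freeMod X n) G ≅ ⨁ fun _ : Fin n => G where
  hom := biproduct.lift fun i => hMap (Sigma.ι (fun _ : Fin n => Coh.structureModule X) i) G ≫ (iHomUnitIso G).hom
  inv := biproduct.desc fun i => (iHomUnitIso G).inv ≫ hMap (freeProj X n i) G
  hom_inv_id := by
    rw [biproduct.lift_desc, ← hMap_id, ← freeProj_total, hMap_sum]
    exact Finset.sum_congr rfl fun i _ => by rw [Category.assoc, Iso.hom_inv_id_assoc, hMap_comp]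
  inv_hom_id := by
    classical
    refine biproduct.hom_ext' _ _ fun j => biproduct.hom_ext _ _ fun i => ?_
    rw [biproduct.ι_desc_assoc, Category.comp_id, Category.assoc, Category.assoc, biproduct.lift_π,
      biproduct.ι_π, ← Category.assoc (hMap (freeProj X n j) G), hMap_ι_freeProj]
    by_cases h : i = j
    · subst h; simp
    · simp [h, Ne.symm h]

theorem exists_stalk_exact [IsAffine X] [IsLocallyNoetherian X] {F G : X.Modules} (hF : Coh.IsCoh F) (x : X) :
    ∃ (n m : ℕ) (i : ↑((iHom F G).presheaf.stalk x) →ₗ[X.presheaf.stalk x] (Fin n → ↑(G.presheaf.stalk x)))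
      (u : (Fin n → ↑(G.presheaf.stalk x)) →ₗ[X.presheaf.stalk x] (Fin m → ↑(G.presheaf.stalk x))),
      Function.Injective i ∧ Function.Exact i u := by
  obtain ⟨n, p, hp⟩ := RegSheaf.exists_freeMod_epi hF
  have hK : Coh.IsCoh (kernel p) := QCoh.isCoh_kernel p (DegDet.isCoh_freeMod X n) hF
  obtain ⟨m, q, hq⟩ := RegSheaf.exists_freeMod_epi hK
  let S := ShortComplex.mk (q ≫ kernel.ι p) p (by simp)
  have hS : S.Exact := by
    refine S.exact_iff_epi_kernel_lift.2 ?_
    rw [show kernel.lift S.g S.f S.zero = q from (cancel_mono (kernel.ι p)).1 (kernel.lift_ι _ _ _)]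
    exact hq
  haveI : Epi S.g := hp
  obtain ⟨e⟩ := HilbObs26.hMap_exact hS G
  let E : ∀ k : ℕ, (OX.stalk x).obj (iHom (FlatMod.freeMod X k) G) ≅
      ModuleCat.of (X.presheaf.stalk x) (Fin k → ↑(G.presheaf.stalk x)) := fun k =>
    (OX.stalk x).mapIso (iHomFreeIso G k) ≪≫ (OX.stalk x).mapBiproduct _ ≪≫ ModuleCat.biproductIsoPi _
  let T := ShortComplex.mk (e.hom ≫ kernel.ι (hMap S.f G)) (hMap S.f G)
    (by rw [Category.assoc, kernel.condition, comp_zero])
  let T₀ := ShortComplex.mk (kernel.ι (hMap S.f G)) (hMap S.f G) (kernel.condition _)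
  have hT : T.Exact :=
    ShortComplex.exact_of_iso (S₁ := T₀) (S₂ := T)
      (ShortComplex.isoMk e.symm (Iso.refl _) (Iso.refl _) (by simp [T, T₀]) (by simp [T, T₀]))
      (ShortComplex.exact_kernel (hMap S.f G))
  have hTx := (ShortComplex.moduleCat_exact_iff _).1 ((OX.exact_iff T).1 hT x)
  haveI : Mono ((OX.stalk x).map T.f) := by
    haveI : Mono T.f := mono_comp _ _
    infer_instance
  let i := ((OX.stalk x).map T.f ≫ (E n).hom).hom
  let u := ((E n).inv ≫ (OX.stalk x).map T.g ≫ (E m).hom).hom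
  refine ⟨n, m, i, u, (ModuleCat.mono_iff_injective _).1 (mono_comp _ _), fun v => ?_⟩
  constructor
  · intro hv
    obtain ⟨w, hw⟩ := hTx ((E n).inv v) ((ModuleCat.mono_iff_injective (E m).hom).1 inferInstance
      (hv.trans (map_zero (E m).hom.hom).symm))
    exact ⟨w, (congrArg (E n).hom hw).trans ((E n).toLinearEquiv.apply_symm_apply v)⟩
  · rintro ⟨w, rfl⟩
    show (E m).hom ((OX.stalk x).map T.g ((E n).inv ((E n).hom ((OX.stalk x).map T.f w)))) = 0
    rw [show (E n).inv ((E n).hom ((OX.stalk x).map T.f w)) = (OX.stalk x).map T.f w from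
      (E n).toLinearEquiv.symm_apply_apply _]
    rw [← ConcreteCategory.comp_apply ((OX.stalk x).map T.f), ← Functor.map_comp, T.zero, Functor.map_zero]
    exact map_zero _

/-- The local rings of an open subscheme. -/
def stalkRingEquiv (U : X.Opens) (y : (U : Scheme.{u})) :
    (U : Scheme.{u}).presheaf.stalk y ≃+* X.presheaf.stalk (U.ι y) :=
  (U.stalkIso y).commRingCatIsoToRingEquiv

/-- Stalks of restrictions, semilinearly. -/
theorem exists_stalk_semilinear (M : X.Modules) (U : X.Opens) (y : (U : Scheme.{u})) :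
    ∃ (e : ↑(((Scheme.Modules.restrictFunctor U.ι).obj M).presheaf.stalk y) ≃+ ↑(M.presheaf.stalk (U.ι y))),
      ∀ r m, e (r • m) = stalkRingEquiv U y r • e m := by
  let E := (Scheme.Modules.restrictStalkNatIso U.ι y).app M
  refine ⟨E.addCommGroupIsoToAddEquiv, fun r m => ?_⟩
  obtain ⟨V₁, h₁, a, rfl⟩ := TopCat.Presheaf.exists_germ_eq (U : Scheme.{u}).presheaf r
  obtain ⟨V₂, h₂, t, rfl⟩ := TopCat.Presheaf.exists_germ_eq ((Scheme.Modules.restrictFunctor U.ι).obj M).presheaf m
  rw [← TopCat.Presheaf.germ_res_apply (U : Scheme.{u}).presheaf (homOfLE (inf_le_left : V₁ ⊓ V₂ ≤ V₁)) y ⟨h₁, h₂⟩,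
    ← TopCat.Presheaf.germ_res_apply ((Scheme.Modules.restrictFunctor U.ι).obj M).presheaf
      (homOfLE (inf_le_right : V₁ ⊓ V₂ ≤ V₂)) y ⟨h₁, h₂⟩, ← Mero.germ_smul]
  refine (FTDesc.restrictStalk_germ_smul M U (V₁ ⊓ V₂) y ⟨h₁, h₂⟩ _ _).trans ?_
  refine congrArg₂ (· • ·) ?_ ?_
  · exact (ConcreteCategory.congr_hom (Scheme.Opens.germ_stalkIso_hom U y (V := V₁ ⊓ V₂) ⟨h₁, h₂⟩) _).symm
  · exact (ConcreteCategory.congr_hom
      (Scheme.Modules.germ_restrictStalkNatIso_hom_app U.ι y M (U := V₁ ⊓ V₂) ⟨h₁, h₂⟩) _).symm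

/-- The stalks of the sheaf Hom embed into finite powers. -/
theorem exists_stalk_exact_sheafHom [IsLocallyNoetherian X] {F G : X.Modules} (hF : Coh.IsCoh F) (x : X) :
    ∃ (n m : ℕ) (i : ↑(((DCoh.sheafHom F).obj G).presheaf.stalk x) →ₗ[X.presheaf.stalk x] (Fin n → ↑(G.presheaf.stalk x)))
      (u : (Fin n → ↑(G.presheaf.stalk x)) →ₗ[X.presheaf.stalk x] (Fin m → ↑(G.presheaf.stalk x))),
      Function.Injective i ∧ Function.Exact i u := by
  obtain ⟨U₀, hU, hxU, -⟩ := Opens.isBasis_iff_nbhd.1 X.isBasis_affineOpens (Opens.mem_top x)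
  let U : X.Opens := U₀
  haveI : IsAffine (U : Scheme.{u}) := hU
  haveI : IsLocallyNoetherian (U : Scheme.{u}) := isLocallyNoetherian_of_isOpenImmersion U.ι
  haveI : ModSite.HasSheafHom (O := X.sheaf) F := SheafCoh.hasSheafHom _ _
  let F' := (Scheme.Modules.restrictFunctor U.ι).obj F
  let G' := (Scheme.Modules.restrictFunctor U.ι).obj G
  haveI : ModSite.HasSheafHom (O := (U : Scheme.{u}).sheaf) F' := SheafCoh.hasSheafHom _ _
  let a : (DCoh.sheafHom F).obj G ≅ (ModSite.sheafHom (O := X.sheaf) F).obj G :=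
    ((LocFreeDual20.siteHomIso F).app G).symm
  let b : (Scheme.Modules.restrictFunctor U.ι).obj ((ModSite.sheafHom (O := X.sheaf) F).obj G) ≅
      (ModSite.sheafHom (O := (U : Scheme.{u}).sheaf) F').obj G' :=
    (HomRestrict20.sheafHomRestrictIso U.ι F).app G
  let c : (ModSite.sheafHom (O := (U : Scheme.{u}).sheaf) F').obj G' ≅ iHom F' G' :=
    (LocFreeDual20.siteHomIso F').app _
  let t : (Scheme.Modules.restrictFunctor U.ι).obj ((DCoh.sheafHom F).obj G) ≅ iHom F' G' :=
    (Scheme.Modules.restrictFunctor U.ι).mapIso a ≪≫ b ≪≫ c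
  let y : (U : Scheme.{u}) := ⟨x, hxU⟩
  obtain ⟨n, m, i, u, hi, hex⟩ := exists_stalk_exact (G := G') (Cohom.isCoh_restrict F hF U.ι) y
  obtain ⟨eH₀, heH₀⟩ := exists_stalk_semilinear ((DCoh.sheafHom F).obj G) U y
  obtain ⟨eG₀, heG₀⟩ := exists_stalk_semilinear G U y
  let σ : (U : Scheme.{u}).presheaf.stalk y ≃+* X.presheaf.stalk x := stalkRingEquiv U y
  let eH : ↑(((Scheme.Modules.restrictFunctor U.ι).obj ((DCoh.sheafHom F).obj G)).presheaf.stalk y) ≃+
      ↑(((DCoh.sheafHom F).obj G).presheaf.stalk x) := eH₀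
  let eG : ↑(G'.presheaf.stalk y) ≃+ ↑(G.presheaf.stalk x) := eG₀
  have heH : ∀ r m, eH (r • m) = σ r • eH m := heH₀
  have heG : ∀ r m, eG (r • m) = σ r • eG m := heG₀
  let tl := ((OX.stalk y).mapIso t).toLinearEquiv
  let P : ∀ k : ℕ, (Fin k → ↑(G'.presheaf.stalk y)) ≃+ (Fin k → ↑(G.presheaf.stalk x)) := fun k =>
    AddEquiv.piCongrRight fun _ => eG
  have hP : ∀ k r v, P k (r • v) = σ r • P k v := fun k r v => funext fun _ => heG r _
  let i' : ↑(((DCoh.sheafHom F).obj G).presheaf.stalk x) →ₗ[X.presheaf.stalk x] (Fin n → ↑(G.presheaf.stalk x)) :=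
    { toFun := fun h => P n (i (tl (eH.symm h)))
      map_add' := fun a b => by rw [map_add, map_add, map_add, map_add]
      map_smul' := fun r h => by
        obtain ⟨r, rfl⟩ := σ.surjective r
        obtain ⟨h, rfl⟩ := eH.surjective h
        rw [← heH, eH.symm_apply_apply, eH.symm_apply_apply, map_smul, map_smul, hP]
        rfl }
  let u' : (Fin n → ↑(G.presheaf.stalk x)) →ₗ[X.presheaf.stalk x] (Fin m → ↑(G.presheaf.stalk x)) :=
    { toFun := fun h => P m (u ((P n).symm h))
      map_add' := fun a b => by rw [map_add, map_add, map_add]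
      map_smul' := fun r h => by
        obtain ⟨r, rfl⟩ := σ.surjective r
        obtain ⟨h, rfl⟩ := (P n).surjective h
        rw [← hP, (P n).symm_apply_apply, (P n).symm_apply_apply, map_smul, hP]
        rfl }
  refine ⟨n, m, i', u', fun a b h => eH.symm.injective (tl.injective (hi ((P n).injective h))), fun v => ?_⟩
  obtain ⟨v, rfl⟩ := (P n).surjective v
  show P m (u ((P n).symm (P n v))) = 0 ↔ _
  rw [(P n).symm_apply_apply, (P m).map_eq_zero_iff, hex]
  constructor
  · rintro ⟨w, rfl⟩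
    exact ⟨eH (tl.symm w), by
      show P n (i (tl (eH.symm (eH (tl.symm w))))) = _
      rw [eH.symm_apply_apply, tl.apply_symm_apply]⟩
  · rintro ⟨h, hh⟩
    exact ⟨_, (P n).injective hh⟩

theorem depth_sheafHom [IsLocallyNoetherian X] {F G : X.Modules} (hF : Coh.IsCoh F) (hG : Coh.IsCoh G) (x : X) :
    ((1 : ℕ∞) ≤ LocCoh.depth (X.presheaf.stalk x) ↑(G.presheaf.stalk x) →
      (1 : ℕ∞) ≤ LocCoh.depth (X.presheaf.stalk x) ↑(((DCoh.sheafHom F).obj G).presheaf.stalk x)) ∧
    ((2 : ℕ∞) ≤ LocCoh.depth (X.presheaf.stalk x) ↑(G.presheaf.stalk x) →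
      (2 : ℕ∞) ≤ LocCoh.depth (X.presheaf.stalk x) ↑(((DCoh.sheafHom F).obj G).presheaf.stalk x)) := by
  haveI := QCoh.stalk_finite G hG x
  haveI := QCoh.stalk_finite _ (isCoh_sheafHom hF hG) x
  obtain ⟨n, m, i, u, hi, hex⟩ := exists_stalk_exact_sheafHom (G := G) hF x
  constructor
  · intro h
    exact DepthKer.one_le_of_injective _ i hi (by exact_mod_cast DepthKer.le_idealDepth_pi _ 1 (by exact_mod_cast h) n)
  · intro h
    have h1 : ((1 : ℕ) : ℕ∞) ≤ LocCoh.depth (X.presheaf.stalk x) ↑(G.presheaf.stalk x) :=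
      le_trans (by exact_mod_cast one_le_two) h
    exact DepthKer.two_le_of_exact _ i u hi hex
      (by exact_mod_cast DepthKer.le_idealDepth_pi _ 2 (by exact_mod_cast h) n)
      (by exact_mod_cast DepthKer.le_idealDepth_pi _ 1 h1 m)

theorem hasSk_sheafHom [IsLocallyNoetherian X] {F G : X.Modules} (hF : Coh.IsCoh F) (hG : Coh.IsCoh G)
    (k : ℕ) (hk : k = 1 ∨ k = 2) (x : X)
    (hS : min (k : WithBot ℕ∞) (Module.supportDim (X.presheaf.stalk x) ↑(G.presheaf.stalk x)) ≤
      ((LocCoh.depth (X.presheaf.stalk x) ↑(G.presheaf.stalk x) : ℕ∞) : WithBot ℕ∞)) :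
    min (k : WithBot ℕ∞)
        (Module.supportDim (X.presheaf.stalk x) ↑(((DCoh.sheafHom F).obj G).presheaf.stalk x)) ≤
      ((LocCoh.depth (X.presheaf.stalk x) ↑(((DCoh.sheafHom F).obj G).presheaf.stalk x) : ℕ∞) :
        WithBot ℕ∞) := by
  haveI := QCoh.stalk_finite G hG x
  obtain ⟨n, m, i, u, hi, hex⟩ := exists_stalk_exact_sheafHom (G := G) hF x
  have hsupp : Module.supportDim (X.presheaf.stalk x) ↑(((DCoh.sheafHom F).obj G).presheaf.stalk x) ≤
      Module.supportDim (X.presheaf.stalk x) ↑(G.presheaf.stalk x) := by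
    refine (Module.supportDim_le_of_injective i hi).trans ?_
    refine Order.krullDim_le_of_strictMono (fun p => ⟨p.1, ?_⟩) fun a b hab => hab
    have hp : p.1 ∈ PrimeSpectrum.zeroLocus
        ((Module.annihilator (X.presheaf.stalk x) (Fin n → ↑(G.presheaf.stalk x))) : Set _) :=
      Module.support_eq_zeroLocus.le p.2
    refine Module.support_eq_zeroLocus.ge fun r hr => hp (Module.mem_annihilator.2 fun v => funext fun j => ?_)
    exact Module.mem_annihilator.1 hr (v j)
  obtain ⟨h1, h2⟩ := depth_sheafHom hF hG x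
  generalize hdG : LocCoh.depth (X.presheaf.stalk x) ↑(G.presheaf.stalk x) = dG at hS h1 h2
  generalize Module.supportDim (X.presheaf.stalk x) ↑(G.presheaf.stalk x) = sG at hS hsupp
  generalize Module.supportDim (X.presheaf.stalk x) ↑(((DCoh.sheafHom F).obj G).presheaf.stalk x) = sH at hsupp ⊢
  generalize LocCoh.depth (X.presheaf.stalk x) ↑(((DCoh.sheafHom F).obj G).presheaf.stalk x) = dH at h1 h2 ⊢
  refine le_trans (min_le_min_left _ hsupp) ?_
  have hle : min (k : WithBot ℕ∞) sG ≤ ((min (k : ℕ∞) dG : ℕ∞) : WithBot ℕ∞) := by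
    rw [WithBot.coe_min]
    exact le_min (min_le_left _ _) hS
  refine hle.trans (WithBot.coe_le_coe.2 ?_)
  rcases hk with rfl | rfl
  · rcases Nat.eq_zero_or_pos 0 with - | h
    · by_cases h : (1 : ℕ∞) ≤ dG
      · exact (min_le_left _ _).trans (by exact_mod_cast h1 h)
      · rw [Order.lt_one_iff.1 (not_le.1 h)]
        simp
    · omega
  · by_cases h : (2 : ℕ∞) ≤ dG
    · exact (min_le_left _ _).trans (by exact_mod_cast h2 h)
    · by_cases h' : (1 : ℕ∞) ≤ dG
      · refine (min_le_right _ _).trans (le_trans ?_ (h1 h'))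
        exact Order.le_of_lt_succ (lt_of_lt_of_eq (not_le.1 h) rfl)
      · rw [Order.lt_one_iff.1 (not_le.1 h')]
        simp

end GrothLib.CohHom9
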