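import Groth.Agent.Lib.HomSh.QCoh

/-!
A morphism of stalks extends to a neighbourhood.
-/

set_option autoImplicit false
set_option backward.isDefEq.respectTransparency false
universe u

noncomputable section

open CategoryTheory CategoryTheory.Limits AlgebraicGeometry TopologicalSpace Opposite

namespace GrothLib.CohHom9

variable {X : Scheme.{u}}

theorem section_ext (F : X.Modules) {U : X.Opens} {s t : Γ(F, U)}
    (h : ∀ (y : X) (hy : y ∈ U), F.presheaf.germ U y hy s = F.presheaf.germ U y hy t) : s = t :=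
  TopCat.Presheaf.section_ext (C := Ab.{u}) (X := X.carrier) ⟨F.presheaf, F.isSheaf⟩ U s t h

theorem exists_hom_restrict [IsLocallyNoetherian X] (F G : X.Modules) (hG : Coh.IsCoh G) (x : X)
    (ψ : ↑(G.presheaf.stalk x) →ₗ[X.presheaf.stalk x] ↑(F.presheaf.stalk x)) :
    ∃ (U : X.Opens) (hx : x ∈ U)
      (φ : (Scheme.Modules.restrictFunctor U.ι).obj G ⟶ (Scheme.Modules.restrictFunctor U.ι).obj F),
      (Scheme.Modules.restrictStalkNatIso U.ι (⟨x, hx⟩ : U)).inv.app G ≫
          (TopCat.Presheaf.stalkFunctor _ (⟨x, hx⟩ : U)).map φ.mapPresheaf ≫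
            (Scheme.Modules.restrictStalkNatIso U.ι (⟨x, hx⟩ : U)).hom.app F =
        AddCommGrpCat.ofHom ψ.toAddMonoidHom := by
  obtain ⟨θ, hθ⟩ := ((HomSh.hasRel_of_isCoh hG).evalStalk_bijective F x).2 ψ
  obtain ⟨U₀, hx, g, rfl⟩ := TopCat.Presheaf.exists_germ_eq (RefHull.homSh G F).presheaf θ
  rw [RefHull.evalStalk_germ] at hθ
  let U : X.Opens := U₀
  let r : ∀ V : X.Opens, V ≤ U → Γ(RefHull.homSh G F, V) := fun V h =>
    (RefHull.homSh G F).presheaf.map (homOfLE h).op g
  have hle : ∀ V : (U : Scheme.{u}).Opens, U.ι ''ᵁ V ≤ U := fun V => U.ι_image_le V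
  choose app happ using fun (V : (U : Scheme.{u}).Opens) (m : Γ(G, U.ι ''ᵁ V)) =>
    (HomSh.existsUnique_apply (r _ (hle V)) m).exists
  have happ' : ∀ (V : (U : Scheme.{u}).Opens) (m : Γ(G, U.ι ''ᵁ V)) (y : X) (hy : y ∈ U.ι ''ᵁ V),
      g.1 ⟨y, hle V hy⟩ (G.presheaf.germ _ y hy m) = F.presheaf.germ _ y hy (app V m) :=
    fun V m y hy => happ V m y hy
  let α : ((Scheme.Modules.restrictFunctor U.ι).obj G).presheaf ⟶ ((Scheme.Modules.restrictFunctor U.ι).obj F).presheaf :=
    { app := fun V => AddCommGrpCat.ofHom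
        { toFun := app V.unop
          map_zero' := section_ext F fun y hy => by
            refine (happ' _ _ y hy).symm.trans ?_
            erw [map_zero, map_zero, map_zero]
          map_add' := fun a b => section_ext F fun y hy => by
            refine (happ' _ _ y hy).symm.trans ?_
            erw [map_add, map_add, map_add, happ', happ'] }
      naturality := fun V W i => by
        ext m
        refine section_ext F fun y hy => ?_
        refine (happ' W.unop (G.presheaf.map (U.ι.opensFunctor.map i.unop).op m) y hy).symm.trans ?_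
        erw [TopCat.Presheaf.germ_res_apply, TopCat.Presheaf.germ_res_apply]
        exact happ' V.unop m y _ }
  let φ : (Scheme.Modules.restrictFunctor U.ι).obj G ⟶ (Scheme.Modules.restrictFunctor U.ι).obj F :=
    ⟨PresheafOfModules.homMk α fun V (a : Γ((U : Scheme.{u}), V.unop))
        (m : Γ((Scheme.Modules.restrictFunctor U.ι).obj G, V.unop)) =>
      section_ext F fun y hy => by
        let b : Γ(X, U.ι ''ᵁ V.unop) := (U.ι.appIso V.unop).inv a
        let m' : Γ(G, U.ι ''ᵁ V.unop) := m
        have e1 : (G.restrictAppIso U.ι V.unop).hom (a • m) = b • m' :=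
          Scheme.Modules.smul_restrictAppIso_hom_apply _ _ _ _ _
        have e2 : (F.restrictAppIso U.ι V.unop).hom
            (a • (show Γ((Scheme.Modules.restrictFunctor U.ι).obj F, V.unop) from app V.unop m')) =
            b • app V.unop m' :=
          Scheme.Modules.smul_restrictAppIso_hom_apply _ _ _ _ _
        show F.presheaf.germ (U.ι ''ᵁ V.unop) y hy (app V.unop ((G.restrictAppIso U.ι V.unop).hom (a • m))) =
          F.presheaf.germ (U.ι ''ᵁ V.unop) y hy ((F.restrictAppIso U.ι V.unop).hom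
            (a • (show Γ((Scheme.Modules.restrictFunctor U.ι).obj F, V.unop) from app V.unop m')))
        rw [e1, e2, ← happ', Mero.germ_smul, Mero.germ_smul, map_smul, happ']⟩
  refine ⟨U, hx, φ, ?_⟩
  apply AddCommGrpCat.ext
  intro e
  obtain ⟨e', rfl⟩ : ∃ e', (Scheme.Modules.restrictStalkNatIso U.ι (⟨x, hx⟩ : U)).hom.app G e' = e :=
    (ConcreteCategory.bijective_of_isIso
      ((Scheme.Modules.restrictStalkNatIso U.ι (⟨x, hx⟩ : U)).hom.app G)).2 e
  obtain ⟨V, hV, s, rfl⟩ := TopCat.Presheaf.exists_germ_eq ((Scheme.Modules.restrictFunctor U.ι).obj G).presheaf e'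
  have hy : x ∈ U.ι ''ᵁ V := ⟨⟨x, hx⟩, hV, rfl⟩
  have h1 : (Scheme.Modules.restrictStalkNatIso U.ι (⟨x, hx⟩ : U)).hom.app G
      (((Scheme.Modules.restrictFunctor U.ι).obj G).presheaf.germ V _ hV s) = G.presheaf.germ _ x hy s :=
    ConcreteCategory.congr_hom (Scheme.Modules.germ_restrictStalkNatIso_hom_app U.ι (⟨x, hx⟩ : U) G hV) s
  have h2 : (Scheme.Modules.restrictStalkNatIso U.ι (⟨x, hx⟩ : U)).inv.app G
      ((Scheme.Modules.restrictStalkNatIso U.ι (⟨x, hx⟩ : U)).hom.app G
      (((Scheme.Modules.restrictFunctor U.ι).obj G).presheaf.germ V _ hV s)) =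
      ((Scheme.Modules.restrictFunctor U.ι).obj G).presheaf.germ V _ hV s := by
    rw [← ConcreteCategory.comp_apply]
    exact ConcreteCategory.congr_hom
      ((Scheme.Modules.restrictStalkNatIso U.ι (⟨x, hx⟩ : U)).hom_inv_id_app G) _
  rw [ConcreteCategory.comp_apply, ConcreteCategory.comp_apply, h2, h1]
  erw [TopCat.Presheaf.stalkFunctor_map_germ_apply V _ hV φ.mapPresheaf s]
  refine (ConcreteCategory.congr_hom (Scheme.Modules.germ_restrictStalkNatIso_hom_app U.ι (⟨x, hx⟩ : U) F hV) _).trans ?_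
  show F.presheaf.germ _ x hy (app V s) = ψ (G.presheaf.germ _ x hy s)
  rw [← happ', ← hθ]

end GrothLib.CohHom9
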