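import Groth.Agent.Lib.CohHom9.Basic
import Groth.Agent.Lib.ExtTilde20.Hom
import Mathlib.Algebra.Module.FinitePresentation

/-!
The sheaf Hom out of a finitely presented module on an affine scheme.
-/

set_option autoImplicit false
set_option maxHeartbeats 400000
set_option backward.isDefEq.respectTransparency false
universe u

noncomputable section

open CategoryTheory CategoryTheory.Limits AlgebraicGeometry

namespace GrothLib.CohHom9

attribute [local instance] LocFreeHom.hasSheafHom

variable {R : CommRingCat.{u}}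

theorem isQCoh_sheafHom_fp (P : ModuleCat.{u} R) [Module.FinitePresentation R P] (N : ModuleCat.{u} R) :
    Coh.IsQCoh (LocFreeHom.iHom ((tilde.functor R).obj P) ((tilde.functor R).obj N)) := by
  obtain ⟨n, π, hπ⟩ := Module.Finite.exists_fin' R P
  haveI : Module.Finite R (LinearMap.ker π) := Module.Finite.iff_fg.2 (Module.FinitePresentation.fg_ker π hπ)
  obtain ⟨m, κ, hκ⟩ := Module.Finite.exists_fin' R (LinearMap.ker π)
  let P₀ := ModuleCat.of R (Fin n → R)
  let P₁ := ModuleCat.of R (Fin m → R)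
  let S : ShortComplex (ModuleCat.{u} R) :=
    ShortComplex.moduleCatMk (X₁ := Fin m → R) (X₂ := Fin n → R) ((LinearMap.ker π).subtype.comp κ) π
      (LinearMap.ext fun v => (κ v).2)
  have hS : S.Exact := (ShortComplex.moduleCat_exact_iff _).2 fun v hv => by
    obtain ⟨w, hw⟩ := hκ ⟨v, hv⟩
    exact ⟨w, congrArg Subtype.val hw⟩
  haveI : Epi S.g := (ModuleCat.epi_iff_surjective _).2 hπ
  haveI : Epi (S.map (tilde.functor R)).g := inferInstanceAs (Epi ((tilde.functor R).map S.g))
  obtain ⟨e⟩ := HilbObs26.hMap_exact (hS.map (tilde.functor R)) ((tilde.functor R).obj N)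
  have hfree : ∀ k : ℕ, (LocFreeHom.iHom ((tilde.functor R).obj (ModuleCat.of R (Fin k → R)))
      ((tilde.functor R).obj N)).IsQuasicoherent := fun k => by
    haveI : ModSite.HasSheafHom (O := (Spec R).sheaf) ((tilde.functor R).obj (ModuleCat.of R (Fin k → R))) :=
      SheafCoh.hasSheafHom _ _
    exact OX.isQCoh_of_iso ((LocFreeDual20.siteHomIso _).app _)
      (ExtTilde20.isQCoh_sheafHom (P := ModuleCat.of R (Fin k → R)) N)
  haveI := hfree n
  haveI := hfree m
  exact OX.isQCoh_of_iso e.symm (QCoh.isQuasicoherent_kernel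
    (M := LocFreeHom.iHom ((tilde.functor R).obj P₀) ((tilde.functor R).obj N))
    (N := LocFreeHom.iHom ((tilde.functor R).obj P₁) ((tilde.functor R).obj N)) _)

theorem isIso_φ_fp (P : ModuleCat.{u} R) [Module.FinitePresentation R P] (N : ModuleCat.{u} R)
    [ModSite.HasSheafHom (O := (Spec R).sheaf) ((tilde.functor R).obj P)] : IsIso (ExtTilde20.φ P N) := by
  have hQ : Coh.IsQCoh ((ModSite.sheafHom (O := (Spec R).sheaf) ((tilde.functor R).obj P)).obj ((tilde.functor R).obj N)) :=
    OX.isQCoh_of_iso ((LocFreeDual20.siteHomIso _).app _).symm (isQCoh_sheafHom_fp P N)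
  have := @Scheme.Modules.isIso_fromTildeΓ_of_isQuasicoherent _
    ((ModSite.sheafHom (O := (Spec R).sheaf) ((tilde.functor R).obj P)).obj ((tilde.functor R).obj N)) hQ
  let e := asIso (Scheme.Modules.fromTildeΓ
    ((ModSite.sheafHom (O := (Spec R).sheaf) ((tilde.functor R).obj P)).obj ((tilde.functor R).obj N)))
  obtain ⟨x, hx⟩ := (ExtTilde20.bijective_comp_φ (P := P) (N := N)).2 e.hom
  have hx : x ≫ ExtTilde20.φ P N = e.hom := hx
  refine ⟨e.inv ≫ x, (ExtTilde20.bijective_comp_φ (M := ExtTilde20.homMod R P N)).1 ?_, ?_⟩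
  · show ((ExtTilde20.φ P N) ≫ e.inv ≫ x) ≫ ExtTilde20.φ P N = 𝟙 _ ≫ ExtTilde20.φ P N
    rw [Category.assoc, Category.assoc, hx, e.inv_hom_id, Category.comp_id, Category.id_comp]
  · rw [Category.assoc, hx, e.inv_hom_id]

theorem nonempty_sheafHom_tilde_iso (A : Type u) [CommRing A] (M N : Type u) [AddCommGroup M] [Module A M]
    [Module.FinitePresentation A M] [AddCommGroup N] [Module A N]
    [DCoh.HasSheafHom (tilde (R := CommRingCat.of A) (ModuleCat.of A M))] :
    Nonempty ((DCoh.sheafHom (tilde (R := CommRingCat.of A) (ModuleCat.of A M))).obj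
        (tilde (R := CommRingCat.of A) (ModuleCat.of A N)) ≅
      tilde (R := CommRingCat.of A) (ModuleCat.of A (M →ₗ[A] N))) := by
  let R := CommRingCat.of A
  let P : ModuleCat.{u} R := ModuleCat.of A M
  let Q : ModuleCat.{u} R := ModuleCat.of A N
  haveI : Module.FinitePresentation R P := ‹Module.FinitePresentation A M›
  haveI : ModSite.HasSheafHom (O := (Spec R).sheaf) ((tilde.functor R).obj P) := SheafCoh.hasSheafHom _ _
  haveI := isIso_φ_fp P Q
  let l : ExtTilde20.homMod R P Q ≅ (ModuleCat.of A (M →ₗ[A] N) : ModuleCat.{u} R) :=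
    (ModuleCat.homLinearEquiv (S := R) (M := P) (N := Q)).toModuleIso
  exact ⟨((LocFreeDual20.siteHomIso ((tilde.functor R).obj P)).app _).symm ≪≫
    (asIso (ExtTilde20.φ P Q)).symm ≪≫ (tilde.functor R).mapIso l⟩

end GrothLib.CohHom9
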